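import Cfsg.Agent.H155.Cyc
import Cfsg.Agent.LieClassical.SUBasic
set_option linter.all false

/-!
# Unitary matrices: eigenvalues, and `GL_m(q²) ≤ GU_2m(q)` (helper155)
-/

set_option autoImplicit false
set_option linter.unusedSectionVars false

namespace Cfsg.Agent.H155.Unit

open Polynomial Cfsg.Agent.H155.Root Cfsg.Agent.H155.Cyc Matrix

/-- `q` is a power of the characteristic. -/
theorem exists_pow {F : Type*} [Field F] [Fintype F] {q : ℕ} (hF : Fintype.card F = q ^ 2) (p : ℕ)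
    [Fact p.Prime] [CharP F p] : ∃ j, 0 < j ∧ q = p ^ j := by
  have hpp : p.Prime := Fact.out
  obtain ⟨f, -, hf⟩ := FiniteField.card F p
  have h1 : q ∣ p ^ (f : ℕ) := by
    rw [← hf, hF]; exact dvd_pow_self q two_ne_zero
  obtain ⟨j, -, hj⟩ := (Nat.dvd_prime_pow hpp).1 h1
  refine ⟨j, ?_, hj⟩
  rcases Nat.eq_zero_or_pos j with rfl | h
  · exfalso
    rw [pow_zero] at hj
    rw [hj, one_pow] at hF
    have := Fintype.one_lt_card (α := F)
    omega
  · exact h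

/-- The power map as a ring homomorphism. -/
theorem exists_frobHom (K : Type*) [Field K] (p j : ℕ) [Fact p.Prime] [CharP K p] :
    ∃ σ : K →+* K, ∀ x, σ x = x ^ (p ^ j) :=
  ⟨iterateFrobenius K p j, fun _ => rfl⟩

theorem mem_SU_iff_matrix {F : Type*} [Field F] {n q : ℕ} (σ : F →+* F) (hσ : ∀ x, σ x = x ^ q)
    (g : Matrix.SpecialLinearGroup (Fin n) F) :
    g ∈ Cfsg.SU n F q ↔
      (g : Matrix (Fin n) (Fin n) F)ᵀ * (g : Matrix (Fin n) (Fin n) F).map σ = 1 := by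
  rw [Cfsg.Agent.LieClassical.SUBasic.mem_SU_iff]
  set X : Matrix (Fin n) (Fin n) F := (g : Matrix (Fin n) (Fin n) F)
  have hform : ∀ u v : Fin n → F, Cfsg.hermForm n F q u v = u ⬝ᵥ (fun i => σ (v i)) := by
    intro u v
    simp only [Cfsg.hermForm, dotProduct, hσ]
  have hmap : ∀ v : Fin n → F, (fun i => σ ((X *ᵥ v) i)) = X.map σ *ᵥ (fun i => σ (v i)) := by
    intro v
    funext i
    simp only [mulVec, dotProduct, map_sum, map_mul, Matrix.map_apply]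
  have hkey : ∀ u v : Fin n → F, Cfsg.hermForm n F q (X *ᵥ u) (X *ᵥ v) =
      u ⬝ᵥ ((Xᵀ * X.map σ) *ᵥ (fun i => σ (v i))) := by
    intro u v
    rw [hform, hmap, ← Matrix.mulVec_mulVec, Matrix.dotProduct_mulVec, Matrix.dotProduct_mulVec,
      Matrix.vecMul_transpose, Matrix.dotProduct_mulVec]
  constructor
  · intro h
    ext i j
    have h1 := h (Pi.single i 1) (Pi.single j 1)
    rw [hkey, hform] at h1
    have h2 : (fun k => σ ((Pi.single j (1 : F) : Fin n → F) k)) = Pi.single j 1 := by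
      funext k
      by_cases hk : k = j
      · subst hk; simp
      · simp [Pi.single_eq_of_ne hk]
    rw [h2] at h1
    simpa [Matrix.one_apply, Pi.single_apply, eq_comm] using h1
  · intro h u v
    rw [hkey, h, Matrix.one_mulVec, hform]

section eig

variable {F : Type*} [Field F] {L : Type*} [Field L] [Algebra F L]
variable {ι : Type*} [Fintype ι] [DecidableEq ι]

/-- If `a` is an eigenvalue of a unitary matrix, so is `(a ^ q)⁻¹`. -/
theorem isRoot_conj {q : ℕ} (σ : F →+* F) (hσ : ∀ x, σ x = x ^ q) (τ : L →+* L) (hτ : ∀ x, τ x = x ^ q)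
    {X : Matrix ι ι F} (hX : Xᵀ * X.map σ = 1) {a : L} (ha0 : a ≠ 0)
    (ha : (X.charpoly.map (algebraMap F L)).IsRoot a) :
    (X.charpoly.map (algebraMap F L)).IsRoot (a ^ q)⁻¹ := by
  set Y : Matrix ι ι L := X.map (algebraMap F L) with hY
  have hP : X.charpoly.map (algebraMap F L) = Y.charpoly := by
    rw [hY, Matrix.charpoly_map]
  rw [hP, IsRoot.def, Matrix.eval_charpoly] at ha ⊢
  have h1 : (Matrix.scalar ι (a ^ q) - Y.map τ).det = 0 := by
    have h2 := congrArg τ ha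
    rw [map_zero, RingHom.map_det] at h2
    rw [← h2]
    congr 1
    rw [map_sub]
    congr 1
    ext i j
    by_cases hij : i = j
    · subst hij; simp [hτ]
    · simp [hij]
  have h3 : Y.map τ = (X.map σ).map (algebraMap F L) := by
    ext i j
    simp [hY, hτ, hσ]
  have h4 : Yᵀ * Y.map τ = 1 := by
    rw [h3, hY, ← Matrix.transpose_map, ← Matrix.map_mul, hX, Matrix.map_one _ (map_zero _) (map_one _)]
  have h5 : (Yᵀ * (Matrix.scalar ι (a ^ q) - Y.map τ)).det = 0 := by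
    rw [Matrix.det_mul, h1, mul_zero]
  have haq : a ^ q ≠ 0 := pow_ne_zero q ha0
  have h6 : Yᵀ * (Matrix.scalar ι (a ^ q) - Y.map τ) = (-(a ^ q)) • (Matrix.scalar ι (a ^ q)⁻¹ - Y)ᵀ := by
    rw [mul_sub, h4]
    ext i j
    by_cases hij : i = j
    · subst hij
      simp [Matrix.scalar_apply, Matrix.mul_diagonal]
      field_simp
      ring
    · simp [Matrix.scalar_apply, Matrix.mul_diagonal, hij]
      ring
  rw [h6, Matrix.det_smul, Matrix.det_transpose] at h5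
  rcases mul_eq_zero.1 h5 with h7 | h7
  · exact absurd h7 (pow_ne_zero _ (neg_ne_zero.2 haq))
  · exact h7

end eig

/-! ### arithmetic -/

/-- `q ^ m + (-1) ^ m`. -/
def nN (q m : ℕ) : ℕ := if Even m then q ^ m + 1 else q ^ m - 1

/-- `(q ^ m - (-1) ^ m) / (q + 1)`. -/
def mM (q m : ℕ) : ℕ := (∑ i ∈ Finset.range m, (-(q : ℤ)) ^ i).natAbs

theorem nN_eq (q m : ℕ) (hq : 1 ≤ q) : nN q m = ((-(q : ℤ)) ^ m + 1).natAbs := by
  unfold nN
  split_ifs with h
  · rw [h.neg_pow]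
    have : ((q : ℤ) ^ m + 1) = ((q ^ m + 1 : ℕ) : ℤ) := by push_cast; ring
    rw [this, Int.natAbs_natCast]
  · rw [(Nat.not_even_iff_odd.1 h).neg_pow]
    have h1 : 1 ≤ q ^ m := Nat.one_le_pow _ _ hq
    have : (-(q : ℤ) ^ m + 1) = -((q ^ m - 1 : ℕ) : ℤ) := by
      push_cast [h1]; ring
    rw [this, Int.natAbs_neg, Int.natAbs_natCast]

theorem sum_modEq (q m : ℕ) : (∑ i ∈ Finset.range m, (-(q : ℤ)) ^ i) ≡ m [ZMOD (q + 1 : ℕ)] := by
  have h1 : (-(q : ℤ)) ≡ 1 [ZMOD (q + 1 : ℕ)] := by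
    rw [Int.modEq_iff_dvd]
    push_cast
    exact ⟨1, by ring⟩
  induction m with
  | zero => simp
  | succ m ih =>
    rw [Finset.sum_range_succ, Nat.cast_succ]
    exact ih.add (by simpa using h1.pow m)

theorem dvd_mM_iff {q m d : ℕ} (hd : d ∣ q + 1) : d ∣ mM q m ↔ d ∣ m := by
  have h := (sum_modEq q m).of_dvd (Int.natCast_dvd_natCast.2 hd)
  unfold mM
  rw [← Int.natCast_dvd, ← Int.natCast_dvd_natCast (n := m)]
  exact h.dvd_iff

theorem mul_eq (q m : ℕ) (hq : 1 ≤ q) : (q + 1) * (mM q m * nN q m) = q ^ (2 * m) - 1 := by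
  rw [nN_eq q m hq]
  unfold mM
  have h1 := mul_geom_sum (-(q : ℤ)) m
  have h2 : (q + 1 : ℕ) = ((-(q : ℤ)) - 1).natAbs := by
    have : ((-(q : ℤ)) - 1) = -((q + 1 : ℕ) : ℤ) := by push_cast; ring
    rw [this, Int.natAbs_neg, Int.natAbs_natCast]
  rw [h2, ← mul_assoc, ← Int.natAbs_mul, h1, ← Int.natAbs_mul]
  have h3 : ((-(q : ℤ)) ^ m - 1) * ((-(q : ℤ)) ^ m + 1) = ((q ^ (2 * m) - 1 : ℕ) : ℤ) := by
    have h4 : 1 ≤ q ^ (2 * m) := Nat.one_le_pow _ _ hq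
    push_cast [h4]
    have h5 : (q : ℤ) ^ (2 * m) = (-(q : ℤ)) ^ (2 * m) := by
      rw [(even_two_mul m).neg_pow]
    rw [h5, two_mul, pow_add]; ring
  rw [h3, Int.natAbs_natCast]

theorem dvd_mul_iff {q m d : ℕ} (hq : 1 ≤ q) (hd : d ∣ q + 1) :
    d ∣ mM q m * nN q m ↔ d ∣ 2 * m := by
  rw [nN_eq q m hq]
  unfold mM
  rw [← Int.natAbs_mul, ← Int.natCast_dvd, ← Int.natCast_dvd_natCast (n := 2 * m)]
  have h := (sum_modEq q m).of_dvd (Int.natCast_dvd_natCast.2 hd)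
  have h1 : (-(q : ℤ)) ≡ 1 [ZMOD d] := by
    rw [Int.modEq_iff_dvd]
    refine (Int.natCast_dvd_natCast.2 hd).trans ?_
    push_cast
    exact ⟨1, by ring⟩
  have h2 : (∑ i ∈ Finset.range m, (-(q : ℤ)) ^ i) * ((-(q : ℤ)) ^ m + 1) ≡ m * (1 ^ m + 1) [ZMOD d] :=
    h.mul ((h1.pow m).add_right 1)
  have h3 : (m : ℤ) * (1 ^ m + 1) = ((2 * m : ℕ) : ℤ) := by push_cast; ring
  rw [h3] at h2
  exact h2.dvd_iff

theorem gcd_eq {q m : ℕ} (hq : 1 ≤ q) :
    Nat.gcd (q + 1) (mM q m * nN q m) = Nat.gcd (2 * m) (q + 1) := by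
  apply Nat.dvd_antisymm
  · exact Nat.dvd_gcd ((dvd_mul_iff hq (Nat.gcd_dvd_left _ _)).1 (Nat.gcd_dvd_right _ _)) (Nat.gcd_dvd_left _ _)
  · exact Nat.dvd_gcd (Nat.gcd_dvd_right _ _)
      ((dvd_mul_iff hq (Nat.gcd_dvd_right _ _)).2 (Nat.gcd_dvd_left _ _))

/-- `1 + q² + ... + q^(2(m-1))` times `q - 1`. -/
theorem geom_sq (q m : ℕ) (hq : 1 ≤ q) :
    (∑ i ∈ Finset.range m, (q ^ 2) ^ i) * (q - 1) = mM q m * nN q m := by
  have h1 : (q + 1) * ((∑ i ∈ Finset.range m, (q ^ 2) ^ i) * (q - 1)) = q ^ (2 * m) - 1 := by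

    obtain ⟨t, rfl⟩ : ∃ t, q = t + 1 := ⟨q - 1, by omega⟩
    rw [Nat.add_sub_cancel]
    have h3 := mul_geom_sum (((t : ℤ) + 1) ^ 2) m
    have h4 : 1 ≤ (t + 1) ^ (2 * m) := Nat.one_le_pow _ _ (by omega)
    zify [h4]
    rw [pow_mul, ← h3]
    ring
  have h2 := mul_eq q m hq
  rw [← h2] at h1
  exact Nat.eq_of_mul_eq_mul_left (by omega) h1

end Cfsg.Agent.H155.Unit
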